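import Groth.Agent.Lib.Helper22.EtAcyc.LocZero

/-!
# A criterion for higher direct images on small étale sites to be torsion sheaves (helper22)

`LT h G q`: every class in `H^q(X' ×_{V'} W, G)` becomes torsion after pulling back along an étale
neighbourhood `W' → W` of any given point of `W`.  If `LT h G q` holds for `1 ≤ q ≤ n`, then
`R^q h_* G` is a torsion sheaf for `1 ≤ q ≤ n`.
-/

set_option autoImplicit false
set_option linter.unusedSectionVars false

universe u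

open CategoryTheory CategoryTheory.Limits Opposite AlgebraicGeometry Abelian

namespace Groth.Agent.Lib.Helper22.FieldTors

open Groth.Agent.Lib.Helper22.EtLoc Groth.Agent.Lib.Helper22.DimShift
open Groth.Agent.Lib.Helper22.CechU.Etale Groth.Agent.Lib.Helper22.EtAcycLib

attribute [local instance] Groth.Agent.Lib.Helper22.EtAcycLib.pfl

variable {X' V' : Scheme.{u}} (h : X' ⟶ V')

/-- Classes of degree `q` over base changes of étale `V'`-schemes become torsion locally on the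
base. -/
def LT (G : EtCoh.Ab X') (q : ℕ) : Prop :=
  ∀ (W : V'.Etale) (ξ : EtCoh.H ((EtCoh.bc h).obj W).left ((EtCoh.pull (kk h W)).obj G) q)
    (y : W.left),
    ∃ (W' : V'.Etale) (f : W' ⟶ W) (y' : W'.left), f.left.base y' = y ∧
      IsOfFinAddOrder
        (EtCore.Hpull ((EtCoh.bc h).map f).left ((EtCoh.pull (kk h W)).obj G) q ξ)

/-- Postcomposition with a fixed class, as an additive map. -/
noncomputable def postcompHom {𝒜 : Type*} [Category 𝒜] [Abelian 𝒜] [HasExt.{u + 1} 𝒜] {Z P Q : 𝒜}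
    {a b c : ℕ} (e : Ext P Q b) (hab : a + b = c) : Ext Z P a →+ Ext Z Q c :=
  AddMonoidHom.mk' (fun x => x.comp e hab) (fun _ _ => Ext.add_comp _ _ _ _)

section Beta

variable (Q : EtCoh.Ab X') (W : V'.Etale)

/-- The degree-zero class on `X' ×_{V'} W` attached to a section of `h_* Q` over `W`, as an
additive map. -/
noncomputable def βHom : Q.obj.obj (op ((EtCoh.bc h).obj W)) →+
    EtCoh.H ((EtCoh.bc h).obj W).left ((EtCoh.pull (kk h W)).obj Q) 0 :=
  ((Sheaf.H.equiv₀ ((EtCoh.pull (kk h W)).obj Q)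
      (EtCore.topIsTerminal ((EtCoh.bc h).obj W).left)).symm.toAddMonoidHom.comp
    (((pullIsoRes (kk h W)).inv.app Q).hom.app (op (EtCoh.top ((EtCoh.bc h).obj W).left))).hom).comp
    (Q.obj.map (pjTopIso ((EtCoh.bc h).obj W)).hom.op).hom

end Beta

/-- If the boundary of the class of a section `c` of `h_* S.X₃` dies over `W'`, then `c` lifts to
`h_* S.X₂` over `W'`. -/
theorem exists_lift_of_Hpull_eq_zero (S : ShortComplex (EtCoh.Ab X')) (hS : S.ShortExact)
    (W : V'.Etale) (c : S.X₃.obj.obj (op ((EtCoh.bc h).obj W))) {W' : V'.Etale} (f : W' ⟶ W)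
    (hz : EtCore.Hpull ((EtCoh.bc h).map f).left ((EtCoh.pull (kk h W)).obj S.X₁) 1
      ((βHom h S.X₃ W c : Ext (EtCoh.const _ ℤ) (S.map (EtCoh.pull (kk h W))).X₃ 0).comp
        (hS.map_of_exact (EtCoh.pull (kk h W))).extClass (zero_add 1)) = 0) :
    ∃ b : S.X₂.obj.obj (op ((EtCoh.bc h).obj W')),
      S.g.hom.app _ b = S.X₃.obj.map ((EtCoh.bc h).map f).op c := by
  let B : X'.Etale := (EtCoh.bc h).obj W
  let k : B.left ⟶ X' := kk h W
  let e := pjTopIso B
  let ρ := pullIsoRes k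
  let c₀ : ((res k).obj S.X₃).obj.obj (op (EtCoh.top B.left)) := S.X₃.obj.map e.hom.op c
  let c' : ((EtCoh.pull k).obj S.X₃).obj.obj (op (EtCoh.top B.left)) :=
    (ρ.inv.app S.X₃).hom.app (op (EtCoh.top B.left)) c₀
  let β : EtCoh.H B.left ((EtCoh.pull k).obj S.X₃) 0 :=
    (Sheaf.H.equiv₀ _ (EtCore.topIsTerminal B.left)).symm c'
  have hββ : βHom h S.X₃ W c = β := rfl
  have hβ : Sheaf.H.equiv₀ _ (EtCore.topIsTerminal B.left) β = c' :=
    (Sheaf.H.equiv₀ _ (EtCore.topIsTerminal B.left)).apply_symm_apply c'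
  have hSk := hS.map_of_exact (EtCoh.pull k)
  let B' : X'.Etale := (EtCoh.bc h).obj W'
  let m : B'.left ⟶ B.left := ((EtCoh.bc h).map f).left
  have hm : m ≫ k = kk h W' := Over.w ((EtCoh.bc h).map f).hom
  let t : (pj m).obj (EtCoh.top B'.left) ⟶ EtCoh.top B.left :=
    MorphismProperty.Over.homMk m (by
      change m ≫ 𝟙 _ = 𝟙 _ ≫ m
      rw [Category.comp_id, Category.id_comp]) trivial
  obtain ⟨b, hb⟩ := exists_lift_of_Hpull_δ_eq_zero m (S.map (EtCoh.pull k)) hSk β hz t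
  let T : B.left.Etale := (pj m).obj (EtCoh.top B'.left)
  let b₁ : S.X₂.obj.obj (op ((pj k).obj T)) := (ρ.hom.app S.X₂).hom.app (op T) b
  let ι' : B' ⟶ (pj k).obj T := MorphismProperty.Over.homMk (𝟙 _) (by
    change 𝟙 _ ≫ ((𝟙 _ ≫ m) ≫ k) = kk h W'
    rw [Category.id_comp, Category.id_comp]
    exact hm) trivial
  refine ⟨S.X₂.obj.map ι'.op b₁, ?_⟩
  have n1 : S.g.hom.app (op B') (S.X₂.obj.map ι'.op b₁) =
      S.X₃.obj.map ι'.op (S.g.hom.app (op ((pj k).obj T)) b₁) :=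
    NatTrans.naturality_apply S.g.hom ι'.op b₁
  have n2 : S.g.hom.app (op ((pj k).obj T)) b₁ =
      (ρ.hom.app S.X₃).hom.app (op T) (((EtCoh.pull k).map S.g).hom.app (op T) b) := by
    have hnat := ρ.hom.naturality S.g
    have := congrArg (fun ψ : (EtCoh.pull k).obj S.X₂ ⟶ (res k).obj S.X₃ =>
      ψ.hom.app (op T) b) hnat
    exact this.symm
  have n3 : (ρ.hom.app S.X₃).hom.app (op T) (((EtCoh.pull k).obj S.X₃).obj.map t.op c') =
      ((res k).obj S.X₃).obj.map t.op ((ρ.hom.app S.X₃).hom.app (op (EtCoh.top B.left)) c') :=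
    NatTrans.naturality_apply (ρ.hom.app S.X₃).hom t.op c'
  have n4 : (ρ.hom.app S.X₃).hom.app (op (EtCoh.top B.left)) c' = c₀ := by
    have hid : ρ.inv.app S.X₃ ≫ ρ.hom.app S.X₃ = 𝟙 _ := ρ.inv_hom_id_app S.X₃
    exact congrArg (fun ψ : (res k).obj S.X₃ ⟶ (res k).obj S.X₃ =>
      ψ.hom.app (op (EtCoh.top B.left)) c₀) hid
  have hb' : ((EtCoh.pull k).map S.g).hom.app (op T) b =
      ((EtCoh.pull k).obj S.X₃).obj.map t.op c' :=
    hb.trans (congrArg (fun z => ((EtCoh.pull k).obj S.X₃).obj.map t.op z) hβ)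
  have hcomp : ι' ≫ (pj k).map t ≫ e.hom = (EtCoh.bc h).map f := by
    apply MorphismProperty.Over.Hom.ext
    change 𝟙 _ ≫ m ≫ 𝟙 _ = m
    rw [Category.id_comp, Category.comp_id]
  change S.g.hom.app (op B') (S.X₂.obj.map ι'.op b₁) = S.X₃.obj.map ((EtCoh.bc h).map f).op c
  rw [n1, n2, hb', n3, n4]
  have hfin : S.X₃.obj.map ι'.op (S.X₃.obj.map ((pj k).map t).op (S.X₃.obj.map e.hom.op c)) =
      S.X₃.obj.map (ι' ≫ (pj k).map t ≫ e.hom).op c := by
    rw [← Functor.map_comp_apply, ← Functor.map_comp_apply, ← op_comp, ← op_comp,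
      Category.assoc]
  exact hfin.trans (congrArg (fun φ : B' ⟶ B => S.X₃.obj.map φ.op c) hcomp)

/-- If degree-one classes of `S.X₁` become torsion locally on the base, sections of `h_* S.X₃`
lift to `h_* S.X₂` locally up to a positive multiple. -/
theorem exists_nsmul_lift_of_LT (S : ShortComplex (EtCoh.Ab X')) (hS : S.ShortExact)
    (h1 : LT h S.X₁ 1) (W : V'.Etale) (c : S.X₃.obj.obj (op ((EtCoh.bc h).obj W))) (y : W.left) :
    ∃ (W' : V'.Etale) (f : W' ⟶ W) (y' : W'.left) (n : ℕ), 0 < n ∧ f.left.base y' = y ∧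
      ∃ b : S.X₂.obj.obj (op ((EtCoh.bc h).obj W')),
        S.g.hom.app _ b = n • S.X₃.obj.map ((EtCoh.bc h).map f).op c := by
  have hSk := hS.map_of_exact (EtCoh.pull (kk h W))
  obtain ⟨W', f, y', hy', ht⟩ := h1 W
    ((βHom h S.X₃ W c : Ext (EtCoh.const _ ℤ) (S.map (EtCoh.pull (kk h W))).X₃ 0).comp
      hSk.extClass (zero_add 1)) y
  rw [isOfFinAddOrder_iff_nsmul_eq_zero] at ht
  obtain ⟨n, hn, hnz⟩ := ht
  refine ⟨W', f, y', n, hn, hy', ?_⟩
  have hz : EtCore.Hpull ((EtCoh.bc h).map f).left ((EtCoh.pull (kk h W)).obj S.X₁) 1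
      ((βHom h S.X₃ W (n • c) : Ext (EtCoh.const _ ℤ) (S.map (EtCoh.pull (kk h W))).X₃ 0).comp
        hSk.extClass (zero_add 1)) = 0 := by
    rw [map_nsmul]
    have e1 : ((n • βHom h S.X₃ W c :
        Ext (EtCoh.const _ ℤ) (S.map (EtCoh.pull (kk h W))).X₃ 0)).comp
        hSk.extClass (zero_add 1) =
        n • ((βHom h S.X₃ W c : Ext (EtCoh.const _ ℤ) (S.map (EtCoh.pull (kk h W))).X₃ 0).comp
          hSk.extClass (zero_add 1)) :=
      map_nsmul (postcompHom (Z := EtCoh.const _ ℤ) hSk.extClass (zero_add 1)) n _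
    rw [e1]
    exact (map_nsmul _ n _).trans hnz
  obtain ⟨b, hb⟩ := exists_lift_of_Hpull_eq_zero h S hS W (n • c) f hz
  exact ⟨b, hb.trans (map_nsmul _ n c)⟩

/-- Torsion sheaves are stable under isomorphism. -/
lemma isTorsion_of_iso {Y : Scheme.{u}} {F G : EtCoh.Ab Y} (e : F ≅ G) (hF : EtCoh.IsTorsion F) :
    EtCoh.IsTorsion G := by
  intro U s x
  obtain ⟨V, g, hv, hfin⟩ := hF U (e.inv.hom.app (op U) s) x
  refine ⟨V, g, hv, ?_⟩
  have h1 : G.obj.map g.op s = e.hom.hom.app (op V) (F.obj.map g.op (e.inv.hom.app (op U) s)) := by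
    have n1 := NatTrans.naturality_apply e.hom.hom g.op (e.inv.hom.app (op U) s)
    rw [n1]
    have hid : e.inv ≫ e.hom = 𝟙 G := e.inv_hom_id
    have := congrArg (fun ψ : G ⟶ G => ψ.hom.app (op U) s) hid
    exact congrArg (G.obj.map g.op) this.symm
  rw [h1]
  exact (AddMonoidHom.isOfFinAddOrder (e.hom.hom.app (op V)).hom hfin)

/-- If `h_* S.X₂ → h_* S.X₃` factors through `ι`, the cokernel of `ι` is a torsion sheaf. -/
theorem isTorsion_cokernel_of_LT (S : ShortComplex (EtCoh.Ab X')) (hS : S.ShortExact)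
    (h1 : LT h S.X₁ 1) {A : EtCoh.Ab V'} (ι : A ⟶ (EtCoh.push h).obj S.X₃)
    (π₀ : (EtCoh.push h).obj S.X₂ ⟶ A) (hπ₀ : π₀ ≫ ι = (EtCoh.push h).map S.g) :
    EtCoh.IsTorsion (cokernel ι) := by
  intro W s x
  let π := cokernel.π ι
  have hls : Sheaf.IsLocallySurjective π := (Sheaf.isLocallySurjective_iff_epi' _ π).2 inferInstance
  have hmem := Presheaf.imageSieve_mem V'.smallEtaleTopology π.hom s
  rw [mem_smallEtaleTopology_iff] at hmem
  obtain ⟨W₁, g₁, v₁, ⟨c, hc⟩, hv₁⟩ := hmem x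
  obtain ⟨W₂, f, y₂, n, hn, hy₂, b, hb⟩ := exists_nsmul_lift_of_LT h S hS h1 W₁ c v₁
  refine ⟨W₂, f ≫ g₁, ⟨y₂, ?_⟩, ?_⟩
  · change g₁.left.base (f.left.base y₂) = x
    rw [hy₂, hv₁]
  · rw [isOfFinAddOrder_iff_nsmul_eq_zero]
    refine ⟨n, hn, ?_⟩
    have e1 : (cokernel ι).obj.map (f ≫ g₁).op s =
        π.hom.app (op W₂) (((EtCoh.push h).obj S.X₃).obj.map f.op c) := by
      rw [op_comp, Functor.map_comp, ConcreteCategory.comp_apply, ← hc]
      exact (NatTrans.naturality_apply π.hom f.op c).symm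
    rw [e1, ← map_nsmul]
    have e2 : n • ((EtCoh.push h).obj S.X₃).obj.map f.op c =
        ((EtCoh.push h).map S.g).hom.app (op W₂) b := hb.symm
    rw [e2]
    have hzero : (EtCoh.push h).map S.g ≫ π = 0 := by
      rw [← hπ₀, Category.assoc, cokernel.condition, comp_zero]
    exact congrArg (fun ψ : (EtCoh.push h).obj S.X₂ ⟶ cokernel ι =>
      ψ.hom.app (op W₂) b) hzero

/-- The cokernel of `h_* S.X₂ → h_* S.X₃` is a torsion sheaf. -/
theorem isTorsion_cokernel_push_of_LT (S : ShortComplex (EtCoh.Ab X')) (hS : S.ShortExact)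
    (h1 : LT h S.X₁ 1) : EtCoh.IsTorsion (cokernel ((EtCoh.push h).map S.g)) :=
  isTorsion_cokernel_of_LT h S hS h1 ((EtCoh.push h).map S.g) (𝟙 _) (Category.id_comp _)

/-- Dimension shifting for `LT`. -/
theorem LT_shift (S : ShortComplex (EtCoh.Ab X')) (hS : S.ShortExact) [Injective S.X₂] (q : ℕ)
    (h1 : LT h S.X₁ (q + 2)) : LT h S.X₃ (q + 1) := by
  intro W ξ y
  let k := kk h W
  have hSk := hS.map_of_exact (EtCoh.pull k)
  obtain ⟨W', f, y', hy', ht⟩ := h1 W
    ((ξ : Ext (EtCoh.const _ ℤ) (S.map (EtCoh.pull k)).X₃ (q + 1)).comp hSk.extClass rfl) y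
  refine ⟨W', f, y', hy', ?_⟩
  rw [isOfFinAddOrder_iff_nsmul_eq_zero] at ht ⊢
  obtain ⟨n, hn, hnz⟩ := ht
  refine ⟨n, hn, ?_⟩
  let m := ((EtCoh.bc h).map f).left
  have h2 := Hpull_δ m (S.map (EtCoh.pull k)) hSk (q + 1) (q + 2) rfl ξ
  have hSm := hSk.map_of_exact (EtCoh.pull m)
  have h3 : ((n • EtCore.Hpull m (S.map (EtCoh.pull k)).X₃ (q + 1) ξ :
      Ext (EtCoh.const _ ℤ) ((S.map (EtCoh.pull k)).map (EtCoh.pull m)).X₃ (q + 1))).comp
      hSm.extClass rfl = 0 := by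
    have e1 := map_nsmul (postcompHom (Z := EtCoh.const _ ℤ) hSm.extClass
      (rfl : q + 1 + 1 = q + 2)) n (EtCore.Hpull m (S.map (EtCoh.pull k)).X₃ (q + 1) ξ)
    refine e1.trans ?_
    change n • ((EtCore.Hpull m (S.map (EtCoh.pull k)).X₃ (q + 1) ξ).comp hSm.extClass rfl) = 0
    rw [← h2]
    exact hnz
  obtain ⟨γ, hγ⟩ := Ext.covariant_sequence_exact₃ _ hSm _ rfl h3
  have hsub : Subsingleton (EtCoh.H _ ((EtCoh.pull m).obj ((EtCoh.pull k).obj S.X₂)) (q + 1)) :=
    subsingleton_H_pull_pull m k S.X₂ q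
  have hγ0 : γ = 0 :=
    Subsingleton.elim (α := EtCoh.H _ ((EtCoh.pull m).obj ((EtCoh.pull k).obj S.X₂)) (q + 1)) _ _
  rw [hγ0, Ext.zero_comp] at hγ
  exact hγ.symm

/-- **Torsion criterion for higher direct images.** -/
theorem isTorsion_Rpush_of_LT (n : ℕ) : ∀ (G : EtCoh.Ab X'),
    (∀ q : ℕ, 1 ≤ q → q ≤ n → LT h G q) →
      ∀ q : ℕ, 1 ≤ q → q ≤ n → EtCoh.IsTorsion ((EtCoh.Rpush h q).obj G) := by
  induction n with
  | zero =>
    intro G _ q h1 h2
    omega
  | succ n ih =>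
    intro G hG q hq1 hq2
    have hS : (injSC G).ShortExact := injSC_shortExact G
    have : PreservesFiniteLimits (EtCoh.push h) := by
      have : PreservesLimitsOfSize.{0, 0} (EtCoh.push h) :=
        (EtCoh.pullPushAdj h).rightAdjoint_preservesLimits
      exact PreservesLimitsOfSize.preservesFiniteLimits _
    cases q with
    | zero => omega
    | succ p =>
      cases p with
      | zero =>
        have ht := isTorsion_cokernel_push_of_LT h (injSC G) hS (hG 1 le_rfl (by omega))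
        have e := rightDerivedOneIso (EtCoh.push h) (injSC G) hS
        exact isTorsion_of_iso e.symm ht
      | succ p =>
        have hC : ∀ q : ℕ, 1 ≤ q → q ≤ n → LT h (injSC G).X₃ q := by
          intro q hq hqn
          obtain ⟨q, rfl⟩ : ∃ k, q = k + 1 := ⟨q - 1, by omega⟩
          exact LT_shift h (injSC G) hS q (hG (q + 2) (by omega) (by omega))
        have h3 := ih (injSC G).X₃ hC (p + 1) (by omega) (by omega)
        exact isTorsion_of_iso (rightDerivedSuccSuccIso (EtCoh.push h) (injSC G) hS p).symm h3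

end Groth.Agent.Lib.Helper22.FieldTors
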