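import Groth.Agent.Lib.Helper22.FieldTors.PushField
import Groth.Agent.Lib.Helper22.FieldTors.Partition
import Groth.Agent.Lib.Helper22.NormalUnit.Generic2
import Mathlib.AlgebraicGeometry.Noetherian

/-!
# Cohomology of `ℚ` on a Noetherian normal scheme vanishes in positive degrees (helper22)
-/

set_option autoImplicit false
set_option linter.unusedSectionVars false
set_option linter.style.haveILetI false
universe u
open CategoryTheory CategoryTheory.Limits AlgebraicGeometry Opposite Abelian TopologicalSpace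

namespace Groth.Agent.Lib.Helper22.FieldTors

open Groth.Agent.Lib.Helper22.EtStalk Groth.Agent.Lib.Helper22.EtLoc
  Groth.Agent.Lib.Helper22.EtLoc.ConstHom Groth.Agent.Lib.Helper22.NormalUnit

noncomputable section

section Integral

variable (Y : Scheme.{u}) [IsIntegral Y]
  (hN : ∀ y : Y, IsIntegrallyClosed (Y.presheaf.stalk y))

include hN in
/-- `H^p(Y, ℚ) = 0` for `p ≥ 1` on a normal integral scheme. -/
theorem subsingleton_H_cst_Qu_of_normal_integral (p : ℕ) (hp : 1 ≤ p) :
    Subsingleton (EtCoh.H Y (cst (U := Y) Qu.{u}) p) := by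
  have hg : Set.range (Y.fromSpecResidueField (genericPoint Y)) = {genericPoint Y} :=
    Scheme.range_fromSpecResidueField (genericPoint Y)
  have hmono := Gen2.mono_ψc_generic (X := Y) Qu.{u}
    (Y.fromSpecResidueField (genericPoint Y)) hg
  have hepi : Epi (ψc (Y.fromSpecResidueField (genericPoint Y)) Qu.{u}) :=
    (Sheaf.isLocallySurjective_iff_epi' _ _).1
      (Gen2.isLocallySurjective_ψc_generic Qu.{u}
        (Y.fromSpecResidueField (genericPoint Y)) hg hN)
  have hiso : IsIso (ψc (Y.fromSpecResidueField (genericPoint Y)) Qu.{u}) :=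
    isIso_of_mono_of_epi _
  have h2 := subsingleton_H_push_of_UD (Y.residueField (genericPoint Y))
    (Y.fromSpecResidueField (genericPoint Y)) (cst Qu.{u}) UD_cst_Qu p hp
  let e := (EtCoh.HF Y p).mapIso (asIso (ψc (Y.fromSpecResidueField (genericPoint Y)) Qu.{u}))
  have : Subsingleton ↑((EtCoh.HF Y p).obj
      ((EtCoh.push (Y.fromSpecResidueField (genericPoint ↥Y))).obj (cst Qu.{u}))) := h2
  exact e.addCommGroupIsoToAddEquiv.toEquiv.subsingleton

end Integral

section Decomp

variable {X : Scheme.{u}} (hD : ∀ x : X, IsDomain (X.presheaf.stalk x))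

include hD in
/-- An irreducible component through `x` is the closure of the generic point of `Spec O_{X,x}`. -/
lemma component_eq_closure (x : X) (Z : Set X) (hZ : Z ∈ irreducibleComponents X) (hx : x ∈ Z) :
    Z = closure {X.fromSpecStalk x ⟨⊥, Ideal.isPrime_bot⟩} := by
  have hZc : IsClosed Z := isClosed_of_mem_irreducibleComponents Z hZ
  have hZi : IsIrreducible Z := hZ.1
  obtain ⟨η, hη⟩ := QuasiSober.sober hZi hZc
  have h1 : η ⤳ x := by
    rw [specializes_iff_mem_closure, hη.def]
    exact hx
  have h2 : η ∈ Set.range (X.fromSpecStalk x) := by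
    rw [Scheme.range_fromSpecStalk]
    exact h1
  obtain ⟨p, hp⟩ := h2
  let ζ : PrimeSpectrum (X.presheaf.stalk x) := ⟨⊥, Ideal.isPrime_bot⟩
  have h3 : ζ ⤳ p := (PrimeSpectrum.le_iff_specializes ζ p).1 bot_le
  have h4 : (X.fromSpecStalk x) ζ ⤳ η := by
    rw [← hp]
    exact h3.map (X.fromSpecStalk x).continuous
  have h5 : Z ⊆ closure {(X.fromSpecStalk x) ζ} := by
    rw [← hη.def]
    exact closure_minimal (Set.singleton_subset_iff.2 (specializes_iff_mem_closure.1 h4))
      isClosed_closure
  have h6 : IsIrreducible (closure {(X.fromSpecStalk x) ζ}) := isIrreducible_singleton.closure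
  exact le_antisymm h5 (hZ.2 h6 h5)

include hD in
lemma component_eq_of_mem (x : X) (Z Z' : Set X) (hZ : Z ∈ irreducibleComponents X)
    (hZ' : Z' ∈ irreducibleComponents X) (hx : x ∈ Z) (hx' : x ∈ Z') : Z = Z' :=
  (component_eq_closure hD x Z hZ hx).trans (component_eq_closure hD x Z' hZ' hx').symm

include hD in
lemma isOpen_component [NoetherianSpace X] (Z : Set X) (hZ : Z ∈ irreducibleComponents X) :
    IsOpen Z := by
  have hfin : (irreducibleComponents X).Finite := NoetherianSpace.finite_irreducibleComponents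
  have hcl : IsClosed (⋃₀ (irreducibleComponents X \ {Z})) := by
    rw [Set.sUnion_eq_biUnion]
    exact hfin.sdiff.isClosed_biUnion fun s hs => isClosed_of_mem_irreducibleComponents s hs.1
  have heq : Z = (⋃₀ (irreducibleComponents X \ {Z}))ᶜ := by
    ext x
    constructor
    · rintro hx ⟨Z', ⟨hZ', hne⟩, hx'⟩
      exact hne (component_eq_of_mem hD x Z' Z hZ' hZ hx' hx)
    · intro hx
      have hu : x ∈ ⋃₀ irreducibleComponents X := by
        rw [sUnion_irreducibleComponents]
        trivial
      obtain ⟨Z', hZ', hx'⟩ := hu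
      by_contra hnx
      apply hx
      refine ⟨Z', ⟨hZ', ?_⟩, hx'⟩
      rintro rfl
      exact hnx hx'
  rw [heq]
  exact hcl.isOpen_compl

end Decomp

section Main

variable (X : Scheme.{u}) [IsLocallyNoetherian X] [CompactSpace X]
  (hN : ∀ x : X, IsDomain (X.presheaf.stalk x) ∧ IsIntegrallyClosed (X.presheaf.stalk x))

attribute [local instance] Groth.Agent.Lib.Helper22.EtAcycLib.pfl

set_option backward.isDefEq.respectTransparency.types false in
include hN in
/-- `H^p(X, ℚ) = 0` for `p ≥ 1` on a Noetherian normal scheme. -/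
theorem subsingleton_H_cst_Qu_of_normal (p : ℕ) (hp : 1 ≤ p) :
    Subsingleton (EtCoh.H X (cst (U := X) Qu.{u}) p) := by
  classical
  have hNoeth : IsNoetherian X := { }
  have hNS : NoetherianSpace X := inferInstance
  have hD : ∀ x : X, IsDomain (X.presheaf.stalk x) := fun x => (hN x).1
  have hfin : (irreducibleComponents X).Finite := NoetherianSpace.finite_irreducibleComponents
  have : Finite (irreducibleComponents X) := hfin
  have : Fintype (irreducibleComponents X) := Fintype.ofFinite _
  let UZ : irreducibleComponents X → X.Opens := fun Z => ⟨Z.1, isOpen_component hD Z.1 Z.2⟩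
  have hred : ∀ x : X, _root_.IsReduced (X.presheaf.stalk x) := fun x => by
    have := hD x
    infer_instance
  have hXred : IsReduced X := isReduced_of_isReduced_stalk X
  -- each component
  have hcomp : ∀ Z : irreducibleComponents X,
      Subsingleton (EtCoh.H (UZ Z : Scheme.{u}) (cst (U := (UZ Z : Scheme.{u})) Qu.{u}) p) := by
    intro Z
    have hirr : IrreducibleSpace ((UZ Z : Scheme.{u})) := by
      have h1 : IsIrreducible ((UZ Z).ι ⁻¹' Z.1) := by
        refine IsIrreducible.preimage Z.2.1 (UZ Z).ι.isOpenEmbedding ?_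
        obtain ⟨x, hx⟩ := Z.2.1.nonempty
        refine ⟨x, hx, ?_⟩
        rw [Scheme.Opens.range_ι]
        exact hx
      have h2 : (UZ Z).ι ⁻¹' Z.1 = Set.univ := by
        ext y
        simp only [Set.mem_preimage, Set.mem_univ, iff_true]
        exact y.2
      rw [h2] at h1
      exact (irreducibleSpace_def _).2 h1
    have hint : IsIntegral (UZ Z : Scheme.{u}) := isIntegral_of_irreducibleSpace_of_isReduced _
    have hN' : ∀ y : (UZ Z : Scheme.{u}),
        IsIntegrallyClosed ((UZ Z : Scheme.{u}).presheaf.stalk y) := by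
      intro y
      have := (hN y.1).2
      exact IsIntegrallyClosed.of_equiv ((UZ Z).stalkIso y).symm.commRingCatIsoToRingEquiv
    exact subsingleton_H_cst_Qu_of_normal_integral (UZ Z : Scheme.{u}) hN' p hp
  refine subsingleton_of_forall_eq 0 fun α => ?_
  refine eq_zero_of_forall_Hpull_eq_zero_of_partition (fun Z => (UZ Z : Scheme.{u}))
    (fun Z => (UZ Z).ι) ?_ ?_ (cst Qu.{u}) p α ?_
  · intro Z
    rw [Scheme.Opens.range_ι]
    exact isClosed_of_mem_irreducibleComponents Z.1 Z.2
  · intro x
    have hu : x ∈ ⋃₀ irreducibleComponents X := by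
      rw [sUnion_irreducibleComponents]
      trivial
    obtain ⟨Z, hZ, hx⟩ := hu
    refine ⟨⟨Z, hZ⟩, ?_, ?_⟩
    · change x ∈ Set.range (UZ ⟨Z, hZ⟩).ι
      rw [Scheme.Opens.range_ι]
      exact hx
    · rintro ⟨Z', hZ'⟩ hx'
      change x ∈ Set.range (UZ ⟨Z', hZ'⟩).ι at hx'
      rw [Scheme.Opens.range_ι] at hx'
      exact Subtype.ext (component_eq_of_mem hD x Z' Z hZ' hZ hx' hx)
  · intro Z
    have hZs : Subsingleton ↑((EtCoh.HF (↑(UZ Z)) p).obj
        ((constantSheaf (↑(UZ Z) : Scheme.{u}).smallEtaleTopology AddCommGrpCat.{u + 1}).obj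
          Qu.{u})) := hcomp Z
    let e := (EtCoh.HF (UZ Z : Scheme.{u}) p).mapIso ((EtCore.pullConstIso (UZ Z).ι).app Qu.{u})
    have hs : Subsingleton (EtCoh.H (UZ Z : Scheme.{u})
        ((EtCoh.pull (UZ Z).ι).obj (cst Qu.{u})) p) :=
      e.addCommGroupIsoToAddEquiv.toEquiv.subsingleton
    exact Subsingleton.elim _ _

end Main

end

end Groth.Agent.Lib.Helper22.FieldTors
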