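import Groth.Agent.Lib.Helper22.FieldTors.LocTors
import Groth.Agent.Lib.Helper22.FieldTors.PushField
import Groth.Agent.S0124

/-!
# Direct images from the spectrum of a field: torsion of higher direct images and of the higher
cohomology of the direct image (helper22)
-/

set_option autoImplicit false
set_option linter.unusedSectionVars false
set_option linter.style.haveILetI false
universe u
open CategoryTheory CategoryTheory.Limits AlgebraicGeometry Opposite Abelian

namespace Groth.Agent.Lib.Helper22.FieldTors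

open Groth.Agent.Lib.Helper22.EtStalk Groth.Agent.Lib.Helper22.EtLoc
  Groth.Agent.Lib.Helper22.EtAcycLib Groth.Agent.Lib.Helper22.DimShift

noncomputable section

attribute [local instance] Groth.Agent.Lib.Helper22.EtAcycLib.pfl

variable (K : Type u) [Field K] {X : Scheme.{u}} (h : Spec (CommRingCat.of K) ⟶ X)

theorem LT_field (G : EtCoh.Ab (Spec (CommRingCat.of K))) (q : ℕ) (hq : 1 ≤ q) : LT h G q :=
  fun W ξ y => exists_nsmul_Hpull_eq_zero K h G q hq W ξ y

/-- **`R^q h_* G` is a torsion sheaf for `q ≥ 1`** (`h : Spec K → X`). -/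
theorem isTorsion_Rpush_field (G : EtCoh.Ab (Spec (CommRingCat.of K))) (q : ℕ) (hq : 1 ≤ q) :
    EtCoh.IsTorsion ((EtCoh.Rpush h q).obj G) :=
  isTorsion_Rpush_of_LT h q G (fun p hp _ => LT_field K h G p hp) q hq le_rfl

lemma isOfFinAddOrder_of_map {A B : Type*} [AddCommGroup A] [AddCommGroup B] (φ : A →+ B)
    (hφ : Function.Injective φ) (a : A) (h : IsOfFinAddOrder (φ a)) : IsOfFinAddOrder a := by
  rw [isOfFinAddOrder_iff_nsmul_eq_zero] at h ⊢
  obtain ⟨n, hn, hz⟩ := h
  refine ⟨n, hn, hφ ?_⟩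
  rw [map_nsmul, hz, map_zero]

variable [CompactSpace X] [QuasiSeparatedSpace X]

/-- **`H^p(X, h_* G)` is torsion for `p ≥ 1`** (`X` qcqs, `h : Spec K → X`). -/
theorem isOfFinAddOrder_H_push_field : ∀ (p : ℕ) (G : EtCoh.Ab (Spec (CommRingCat.of K)))
    (x : EtCoh.H X ((EtCoh.push h).obj G) (p + 1)), IsOfFinAddOrder x := by
  intro p
  induction p with
  | zero =>
    intro G x
    apply isOfFinAddOrder_of_map (EtLim.HofPush h G 1) (HofPush_one_injective h G)
    exact isOfFinAddOrder_H_field K G 1 Nat.one_pos _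
  | succ p ih =>
    intro G x
    have hS : (injSC G).ShortExact := injSC_shortExact G
    have hT := cokSC_shortExact h (injSC G) hS
    have hinj : Injective ((EtCoh.push h).obj (injSC G).X₂) := injective_push h _
    have hmono := mono_cokι h (injSC G) hS
    have : Injective (cokSC h (injSC G)).X₂ := hinj
    -- `x` comes from `H^{p+1}(X, C)`
    have h0 : (x : Ext (EtCoh.const X ℤ) (cokSC h (injSC G)).X₁ (p + 1 + 1)).comp
        (Ext.mk₀ (cokSC h (injSC G)).f) (add_zero (p + 1 + 1)) = 0 :=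
      Ext.eq_zero_of_injective _
    obtain ⟨z, hz⟩ := Ext.covariant_sequence_exact₁ _ hT x h0 (n₀ := p + 1) rfl
    -- the second short exact sequence `0 → C → h_* Q → R → 0`
    let ι := cokι h (injSC G)
    let E : ShortComplex (EtCoh.Ab X) := ShortComplex.mk ι (cokernel.π ι) (cokernel.condition ι)
    have hE : E.ShortExact :=
      ShortComplex.ShortExact.mk' (ShortComplex.exact_cokernel ι) hmono
        (inferInstanceAs (Epi (cokernel.π ι)))
    have hR : EtCoh.IsTorsion E.X₃ :=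
      isTorsion_cokernel_of_LT h (injSC G) hS (LT_field K h (injSC G).X₁ 1 le_rfl) ι
        (cokSC h (injSC G)).g (cokπ_ι h (injSC G))
    -- the image of `z` in `H^{p+1}(X, h_* Q)` is torsion
    have h1 := ih (injSC G).X₃ (z.comp (Ext.mk₀ E.f) (add_zero (p + 1)))
    rw [isOfFinAddOrder_iff_nsmul_eq_zero] at h1
    obtain ⟨n₁, hn₁, hz₁⟩ := h1
    have h2 : (n₁ • z : Ext (EtCoh.const X ℤ) E.X₁ (p + 1)).comp (Ext.mk₀ E.f)
        (add_zero (p + 1)) = 0 := by
      refine (map_nsmul (postcompHom (Z := EtCoh.const X ℤ) (Ext.mk₀ E.f)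
        (add_zero (p + 1))) n₁ z).trans ?_
      exact hz₁
    obtain ⟨w, hw⟩ := Ext.covariant_sequence_exact₁ _ hE (n₁ • z) h2 (n₀ := p) rfl
    -- `w` is torsion
    have h3 : IsOfFinAddOrder (w : EtCoh.H X E.X₃ p) := Groth.Agent.S0124.result X E.X₃ hR p w
    rw [isOfFinAddOrder_iff_nsmul_eq_zero] at h3
    obtain ⟨n₂, hn₂, hz₂⟩ := h3
    have h4 : n₂ • (n₁ • z) = 0 := by
      rw [← hw]
      refine (map_nsmul (postcompHom (Z := EtCoh.const X ℤ) hE.extClass
        (rfl : p + 1 = p + 1)) n₂ w).symm.trans ?_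
      change ((n₂ • w : Ext (EtCoh.const X ℤ) E.X₃ p)).comp hE.extClass rfl = 0
      have hz₂' : (n₂ • w : Ext (EtCoh.const X ℤ) E.X₃ p) = 0 := hz₂
      rw [hz₂', Ext.zero_comp]
    rw [isOfFinAddOrder_iff_nsmul_eq_zero]
    refine ⟨n₂ * n₁, Nat.mul_pos hn₂ hn₁, ?_⟩
    change (n₂ * n₁) • (x : Ext (EtCoh.const X ℤ) (cokSC h (injSC G)).X₁ (p + 1 + 1)) = 0
    rw [← hz]
    refine (map_nsmul (postcompHom (Z := EtCoh.const X ℤ) hT.extClass
      (rfl : p + 1 + 1 = p + 1 + 1)) (n₂ * n₁) z).symm.trans ?_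
    change ((n₂ * n₁) • z).comp hT.extClass rfl = 0
    rw [mul_comm, mul_nsmul, h4, Ext.zero_comp]

end

end Groth.Agent.Lib.Helper22.FieldTors
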